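import Cfsg.Agent.H489.EP.Eig
import Cfsg.Agent.H489.DegON
import Cfsg.Agent.KFacts.ON.Aut
import Cfsg.Agent.H812.EP.Ly

/-!
# S3499-V, the sporadic row `soc(A) = O'N` (helper489)
-/

set_option autoImplicit false
set_option maxRecDepth 100000

universe u v

namespace Cfsg.Agent.H489.EP.ON

open Subgroup Cfsg Cfsg.Geo Cfsg.Agent.H284 Cfsg.Agent.H419.EP Cfsg.Agent.H921.Spor Cfsg.Agent.H915.LD
open Cfsg.Agent.H489.Deg.ON (wd)
open Cfsg.Agent.KFacts.ON.Cent (hON finite_ON)

theorem chk : wd.chkP 31 10 [6, 4, 1, 3, 2] [0, 2, 6, 6, 6, 1, 2, 4, 3, 2, 6, 3, 4, 3, 2] = true := by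
  decide +kernel

/-- an element of order 31 conjugate to its 10th power -/
theorem exists_elem : ∃ x y : Cfsg.Spor.ON, x ≠ 1 ∧ x ^ 31 = 1 ∧ y * x * y⁻¹ = x ^ 10 := by
  have h := chk
  unfold Wd.chkP at h
  simp only [Bool.and_eq_true] at h
  obtain ⟨⟨h1, h2⟩, h3⟩ := h
  refine ⟨wd.W [6, 4, 1, 3, 2], wd.W [0, 2, 6, 6, 6, 1, 2, 4, 3, 2, 6, 3, 4, 3, 2], ?_, ?_, ?_⟩
  · exact wd.ne_sound h2
  · rw [← wd.W_rep, wd.eq_sound h1, wd.nil]
  · rw [mul_inv_eq_iff_eq_mul, ← wd.app, wd.eq_sound h3, wd.app, wd.W_rep]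

theorem card_ON : Nat.card Cfsg.Spor.ON = 460815505920 := hON.2

theorem card_aut_le : Nat.card (MulAut Cfsg.Spor.ON) ≤ 2 * 460815505920 := by
  have h1 := Cfsg.Agent.KFacts.ON.Aut.index_le
  have h2 := Cfsg.Agent.KFacts.ON.Aut.finite_aut
  have h3 := (MulAut.conj : Cfsg.Spor.ON →* MulAut Cfsg.Spor.ON).range.card_mul_index
  have h4 : Nat.card (MulAut.conj : Cfsg.Spor.ON →* MulAut Cfsg.Spor.ON).range ≤ 460815505920 := by
    have := finite_ON
    rw [← card_ON]
    exact Nat.card_le_card_of_surjective _ (MulAut.conj : Cfsg.Spor.ON →* MulAut Cfsg.Spor.ON).rangeRestrict_surjective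
  rw [← h3]
  calc _ ≤ 460815505920 * 2 := Nat.mul_le_mul h4 h1
    _ = _ := by ring

variable {Q : Type} [Group Q] [Finite Q] {A : Subgroup Q}

theorem cardA (hsoc : HasSoc A Cfsg.Spor.ON) : Nat.card A = 460815505920 ∨ Nat.card A = 921631011840 := by
  have := finite_ON
  have h1 := hsoc.card_le.trans card_aut_le
  obtain ⟨c, hc⟩ := hsoc.card_dvd
  rw [card_ON] at hc
  have h0 : 0 < Nat.card A := Nat.card_pos
  have hc0 : 0 < c := by
    rcases Nat.eq_zero_or_pos c with h | h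
    · rw [h] at hc; omega
    · exact h
  have hc2 : c ≤ 2 := by omega
  interval_cases c
  · left; rw [hc]
  · right; rw [hc]

theorem mod_ne : ∀ i < 15, 0 < i → 10 ^ i % 31 ≠ 1 % 31 := by decide

theorem mod_neg : ∀ i < 15, (10 ^ i + 1) % 31 ≠ 0 := by decide

section dim

variable {ι : Type} [Fintype ι] [DecidableEq ι] {F : Type} [Field F] [Fintype F] {P : Subgroup (GL ι F)}

theorem exists_X (hC : Core P) (e : Soc P ≃* Cfsg.Spor.ON) :
    ∃ X ∈ P, ∃ Y : GL ι F, X ^ 31 = 1 ∧ X ≠ 1 ∧ Y * X * Y⁻¹ = X ^ 10 := by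
  obtain ⟨x, y, h1, h2, h3⟩ := exists_elem
  refine exists_lift e ?_ h1 h2 h3
  have h4 := hC.card_scalars_dvd e Cfsg.Agent.S2052.result
  rw [Nat.card_congr Multiplicative.toAdd, Nat.card_zmod] at h4
  exact Nat.Coprime.coprime_dvd_left h4 (by norm_num)

/-- the dimension outside characteristic 31 -/
theorem dim_le (hC : Core P) (e : Soc P ≃* Cfsg.Spor.ON) (h31 : ((31 : ℕ) : F) ≠ 0) : 15 ≤ Fintype.card ι := by
  obtain ⟨X, -, Y, h1, h2, h3⟩ := exists_X hC e
  exact bound (by norm_num) h31 h1 h2 h3 mod_ne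

/-- the dimension outside characteristic 31, with a form -/
theorem dim_le_form (hC : Core P) (e : Soc P ≃* Cfsg.Spor.ON) (h31 : ((31 : ℕ) : F) ≠ 0)
    {f : (ι → F) → (ι → F) → F} (hf : IsBilinearForm f) (hn : IsNondegenerateForm f)
    (hfix : ∀ X ∈ P, ∀ u v, f ((X : Matrix ι ι F).mulVec u) ((X : Matrix ι ι F).mulVec v) = f u v) :
    30 ≤ Fintype.card ι := by
  obtain ⟨X, hX, Y, h1, h2, h3⟩ := exists_X hC e
  obtain ⟨J, hJ, hJX⟩ := exists_gram hf hn
  exact bound_inv (t := 15) (by norm_num) h31 h1 h2 h3 mod_ne mod_neg hJ (hJX _ (hfix X hX))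

end dim

section row

variable {Γ : Subgroup (MulAut Q)} {ι : Type} [Fintype ι] [DecidableEq ι] {F : Type} [Field F] [Fintype F]
  {S P : Subgroup (GL ι F)}

/-- an element of `omegaGL Q` is an isometry of the polar form -/
theorem polar_omega {Qf : (ι → F) → F} {X : GL ι F} (hX : X ∈ omegaGL Qf) (u v : ι → F) :
    QuadraticMap.polar Qf ((X : Matrix ι ι F).mulVec u) ((X : Matrix ι ι F).mulVec v) = QuadraticMap.polar Qf u v := by
  obtain ⟨x, -, rfl⟩ := hX
  have h1 : ∀ w, Qf (((x : GL ι F) : Matrix ι ι F).mulVec w) = Qf w := fun w => x.2 w w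
  rw [QuadraticMap.polar, QuadraticMap.polar]
  change Qf (((x : GL ι F) : Matrix ι ι F).mulVec u + ((x : GL ι F) : Matrix ι ι F).mulVec v) -
    Qf (((x : GL ι F) : Matrix ι ι F).mulVec u) - Qf (((x : GL ι F) : Matrix ι ι F).mulVec v) = _
  rw [← Matrix.mulVec_add, h1, h1, h1]

/-- the order of `Q` is large -/
theorem card_large (b : Big A Γ S P) (h : Spor.IsoON (socle P)) : 2 ^ 190 ≤ 8 * Nat.card Q := by
  obtain ⟨e⟩ := h
  have hC : Core P := core_of_residual b.core
  have hn := b.thirteen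
  by_cases h31 : ((31 : ℕ) : F) = 0
  · -- characteristic 31
    have hp : 31 ≤ Fintype.card F := by
      have h1 := CharP.cast_eq_zero_iff F (ringChar F) 31
      have h2 : ringChar F ∣ 31 := h1.1 h31
      have h3 : ringChar F = 31 := by
        rcases (Nat.dvd_prime (by norm_num)).1 h2 with h3 | h3
        · exact absurd h3 (CharP.ringChar_ne_one)
        · exact h3
      have h4 : ringChar F ∣ Fintype.card F := by
        rw [← CharP.cast_eq_zero_iff F (ringChar F)]
        exact Nat.cast_card_eq_zero F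
      rw [h3] at h4
      exact Nat.le_of_dvd Fintype.card_pos h4
    have h1 := b.ord
    refine le_trans ?_ h1
    calc 2 ^ 190 ≤ 31 ^ 78 := by norm_num
      _ ≤ Fintype.card F ^ 78 := Nat.pow_le_pow_left hp _
      _ ≤ _ := Nat.pow_le_pow_right Fintype.card_pos (by
          have : 13 * 12 / 2 ≤ Fintype.card ι * (Fintype.card ι - 1) / 2 :=
            Nat.div_le_div_right (Nat.mul_le_mul hn (by omega))
          omega)
  · have h15 := dim_le hC e h31
    have hF := b.two_le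
    rcases b.kind with ⟨-, ho, -, -, -⟩ | ⟨f, -, -, h3, ho, -, -⟩ | ⟨q, hq, σ, f, -, -, -, ho, -, -⟩ |
      ⟨Qf, hQ, hS, ho, -⟩
    · calc 2 ^ 190 ≤ 2 ^ 223 := Nat.pow_le_pow_right (by norm_num) (by norm_num)
        _ ≤ Fintype.card F ^ 223 := Nat.pow_le_pow_left hF _
        _ ≤ Fintype.card F ^ (Fintype.card ι ^ 2 - 2) := Nat.pow_le_pow_right Fintype.card_pos (by
            have : 15 ^ 2 ≤ Fintype.card ι ^ 2 := Nat.pow_le_pow_left h15 2
            omega)
        _ ≤ _ := ho.trans (by omega)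
    · calc 2 ^ 190 ≤ 3 ^ 120 := by norm_num
        _ ≤ Fintype.card F ^ 120 := Nat.pow_le_pow_left h3 _
        _ ≤ Fintype.card F ^ (Fintype.card ι * (Fintype.card ι + 1) / 2) :=
          Nat.pow_le_pow_right Fintype.card_pos (by
            have : 15 * 16 / 2 ≤ Fintype.card ι * (Fintype.card ι + 1) / 2 :=
              Nat.div_le_div_right (Nat.mul_le_mul h15 (by omega))
            omega)
        _ ≤ _ := ho.trans (by omega)
    · have hq2 : 2 ≤ q := by
        by_contra hlt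
        have : q ≤ 1 := by omega
        interval_cases q
        · rw [hq] at hF; norm_num at hF
        · rw [hq] at hF; norm_num at hF
      calc 2 ^ 190 ≤ 2 ^ 222 := Nat.pow_le_pow_right (by norm_num) (by norm_num)
        _ ≤ q ^ 222 := Nat.pow_le_pow_left hq2 _
        _ ≤ q ^ (Fintype.card ι ^ 2 - 3) := Nat.pow_le_pow_right (by omega) (by
            have : 15 ^ 2 ≤ Fintype.card ι ^ 2 := Nat.pow_le_pow_left h15 2
            omega)
        _ ≤ _ := ho.trans (by omega)
    · have h30 := dim_le_form hC e h31 hQ.polar_bilinear hQ.nondegenerate (fun X hX u v =>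
        polar_omega (by rw [← hS]; exact b.le_S hX) u v)
      calc 2 ^ 190 ≤ 2 ^ 435 := Nat.pow_le_pow_right (by norm_num) (by norm_num)
        _ ≤ Fintype.card F ^ 435 := Nat.pow_le_pow_left hF _
        _ ≤ Fintype.card F ^ (Fintype.card ι * (Fintype.card ι - 1) / 2) :=
          Nat.pow_le_pow_right Fintype.card_pos (by
            have : 30 * 29 / 2 ≤ Fintype.card ι * (Fintype.card ι - 1) / 2 :=
              Nat.div_le_div_right (Nat.mul_le_mul h30 (by omega))
            omega)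
        _ ≤ _ := ho

end row

/-- **Row `O'N`** -/
theorem on (hg : Cfsg.Agent.H59.EP.TwoGen.{0}) : BigOf (fun L _ => Spor.IsoON L) := by
  intro Q _ _ A Γ ι _ _ F _ _ S P b h
  have h1 := card_large b h
  obtain ⟨e⟩ := h
  have hA : Nat.card A ∣ 921631011840 := by
    rcases cardA (b.hasSoc' e) with h2 | h2 <;> rw [h2]
    exact ⟨2, by norm_num⟩
  have hQ := Cfsg.Agent.H812.EP.card_le hg b [(2, 10), (3, 4), (5, 1), (7, 3), (11, 1), (19, 1), (31, 1)]
    (by
      intro x hx
      simp only [List.mem_cons, List.not_mem_nil, or_false] at hx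
      rcases hx with rfl | rfl | rfl | rfl | rfl | rfl | rfl <;> norm_num) (by decide)
    (N := 921631011840) (by norm_num) hA (by norm_num)
  have h2 : 8 * Cfsg.Agent.H812.EP.bnd [(2, 10), (3, 4), (5, 1), (7, 3), (11, 1), (19, 1), (31, 1)] 921631011840 <
      2 ^ 190 := by decide +kernel
  omega

end Cfsg.Agent.H489.EP.ON
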